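import Cfsg.Agent.H812.PSq.Geom

/-!
# S4844, PS-2c: the equations
-/

set_option autoImplicit false

namespace Cfsg.Agent.H812.PSq

open Cfsg Subgroup Cfsg.Agent.H696.PSq
open scoped Pointwise

universe u v

/-- Counting over the fibres of a map to the Sylow subgroups. -/
theorem count {p : ℕ} [Fact p.Prime] {D : Type*} [Group D] [Finite D] {S : Type*} [Finite S]
    (F : S → Sylow p D) (act : D → S → S) (hinj : ∀ g, Function.Injective (act g))
    (hF : ∀ g s, F (act g s) = g • F s) (P : Sylow p D) :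
    Nat.card S = Nat.card (Sylow p D) * Nat.card {s // F s = P} := by
  classical
  have : Fintype (Sylow p D) := Fintype.ofFinite _
  have key : ∀ Q Q' : Sylow p D, Nat.card {s // F s = Q} ≤ Nat.card {s // F s = Q'} := by
    intro Q Q'
    obtain ⟨g, hg⟩ := MulAction.exists_smul_eq D Q Q'
    refine Nat.card_le_card_of_injective
      (fun s : {s // F s = Q} => (⟨act g s, by rw [hF, s.2, hg]⟩ : {s // F s = Q'})) ?_
    intro s t hst
    exact Subtype.ext (hinj g (congrArg Subtype.val hst))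
  rw [← Nat.card_congr (Equiv.sigmaFiberEquiv F), Nat.card_sigma,
    Finset.sum_congr rfl (fun Q _ => le_antisymm (key Q P) (key P Q)), Finset.sum_const, Finset.card_univ,
    smul_eq_mul, Nat.card_eq_fintype_card (α := Sylow p D)]

section

variable {p : ℕ} [hp : Fact p.Prime] {C : Type u} [Group C] [Finite C] {W : Type v} [CommGroup W]
  [MulDistribMulAction C W] {A : Subgroup C} (h : PartHyp p W A)

include h

omit [Finite C] in
theorem PH.fixA (l : W) (hl : ∀ x ∈ A, x • l = l) : l = 1 := by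
  by_contra h1
  obtain ⟨R, -, -, h4, -, h6⟩ := h.stab l h1
  have hA : A ≤ R := by
    intro x hx
    refine h6 x ?_ (hl x hx)
    have : orderOf x ∣ p ^ 1 := by
      rw [pow_one, ← h.cardA]
      exact Subgroup.orderOf_dvd_natCard A hx
    obtain ⟨k, -, hk⟩ := (Nat.dvd_prime_pow hp.out).1 this
    exact ⟨k, hk⟩
  have h5 : A = ⊥ := le_bot_iff.1 (le_of_le_of_eq (le_inf hA le_rfl) h4)
  have := h.cardA
  rw [h5, card_bot] at this
  exact hp.out.one_lt.ne this

theorem PH.card_sylow (P : Sylow p C) : Nat.card P = p ^ 3 := by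
  rw [P.card_eq_multiplicity, h.three]

omit [Finite C] h in
theorem PH.pgroup_fix {R E : Subgroup C} {l : W} (hR : ∀ x : C, (∃ k, orderOf x = p ^ k) → x • l = l → x ∈ R)
    {k : ℕ} (hE : Nat.card E = p ^ k) (hl : ∀ x ∈ E, x • l = l) : E ≤ R := by
  intro x hx
  refine hR x ?_ (hl x hx)
  have : orderOf x ∣ p ^ k := by
    rw [← hE]
    exact Subgroup.orderOf_dvd_natCard E hx
  obtain ⟨k, -, hk⟩ := (Nat.dvd_prime_pow hp.out).1 this
  exact ⟨k, hk⟩

omit [Finite C] hp h in
theorem mem_supA (hA : A ≤ center C) {R : Subgroup C} {x : C} (hx : x ∈ R ⊔ A) : ∃ r ∈ R, ∃ a ∈ A, r * a = x := by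
  have hn : A ≤ normalizer (R : Set C) := hA.trans (center_le_normalizer (R : Set C))
  have h1 : x ∈ ((R : Set C) * (A : Set C)) := by
    rw [← Subgroup.coe_mul_of_right_le_normalizer_left R A hn]; exact hx
  obtain ⟨r, hr, a, ha, rfl⟩ := h1
  exact ⟨r, hr, a, ha, rfl⟩

omit [Finite C] hp h in
theorem card_supA (hA : A ≤ center C) {R : Subgroup C} (hRA : R ⊓ A = ⊥) :
    Nat.card (R ⊔ A : Subgroup C) = Nat.card R * Nat.card A := by
  have hn : A ≤ normalizer (R : Set C) := hA.trans (center_le_normalizer (R : Set C))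
  have h1 := Cfsg.Agent.Lib.ProductSet.card_mul_card_inf R A
  rw [hRA, card_bot, mul_one] at h1
  rw [← h1, ← Subgroup.coe_mul_of_right_le_normalizer_left R A hn]
  rfl

omit [Finite C] hp h in
theorem comm_supA (hA : A ≤ center C) {R : Subgroup C} (hR : ∀ x ∈ R, ∀ y ∈ R, x * y = y * x) :
    ∀ x ∈ R ⊔ A, ∀ y ∈ R ⊔ A, x * y = y * x := by
  intro x hx y hy
  obtain ⟨r, hr, a, ha, rfl⟩ := mem_supA hA hx
  obtain ⟨r', hr', a', ha', rfl⟩ := mem_supA hA hy
  have h1 := fun z => mem_center_iff.1 (hA ha) z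
  have h2 := fun z => mem_center_iff.1 (hA ha') z
  calc r * a * (r' * a') = r * (a * (r' * a')) := by group
    _ = r * ((r' * a') * a) := by rw [h1]
    _ = (r * r') * (a' * a) := by group
    _ = (r' * r) * (a * a') := by rw [hR r hr r' hr', h1 a']
    _ = r' * ((r * a) * a') := by group
    _ = r' * (a' * (r * a)) := by rw [h2]
    _ = _ := by group

/-- the Sylow subgroup of the stabilizer -/
noncomputable def Rl (l : W) (hl : l ≠ 1) : Subgroup C := (h.stab l hl).choose

omit [Finite C] hp in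
theorem Rl_card (l : W) (hl : l ≠ 1) : Nat.card (Rl h l hl) = p ^ 2 := (h.stab l hl).choose_spec.1

omit [Finite C] hp in
theorem Rl_comm (l : W) (hl : l ≠ 1) : ∀ x ∈ Rl h l hl, ∀ y ∈ Rl h l hl, x * y = y * x := by
  have := (h.stab l hl).choose_spec.2.1
  intro x hx y hy
  exact congrArg Subtype.val (this.is_comm.comm ⟨x, hx⟩ ⟨y, hy⟩)

omit [Finite C] hp in
theorem Rl_inf (l : W) (hl : l ≠ 1) : Rl h l hl ⊓ A = ⊥ := (h.stab l hl).choose_spec.2.2.1

omit [Finite C] hp in
theorem Rl_fix (l : W) (hl : l ≠ 1) : ∀ x ∈ Rl h l hl, x • l = l := (h.stab l hl).choose_spec.2.2.2.1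

omit [Finite C] hp in
theorem Rl_max (l : W) (hl : l ≠ 1) : ∀ x : C, (∃ k, orderOf x = p ^ k) → x • l = l → x ∈ Rl h l hl :=
  (h.stab l hl).choose_spec.2.2.2.2

omit [Finite C] in
theorem Rl_le (l : W) (hl : l ≠ 1) {E : Subgroup C} {k : ℕ} (hE : Nat.card E = p ^ k)
    (hf : ∀ x ∈ E, x • l = l) : E ≤ Rl h l hl :=
  PH.pgroup_fix (Rl_max h l hl) hE hf

theorem Rl_unique (l : W) (hl : l ≠ 1) {R : Subgroup C} (hR : Nat.card R = p ^ 2) (hf : ∀ x ∈ R, x • l = l) :
    R = Rl h l hl :=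
  eq_of_le_of_card_ge (Rl_le h l hl hR hf) (by rw [hR, Rl_card])

omit [Finite C] hp in
theorem K_card (l : W) (hl : l ≠ 1) : Nat.card (Rl h l hl ⊔ A : Subgroup C) = p ^ 3 := by
  rw [card_supA h.central (Rl_inf h l hl), Rl_card, h.cardA]; ring

omit hp [Finite C] in
/-- `A` lies in every Sylow subgroup -/
theorem A_le (P : Sylow p C) : A ≤ P := by
  have hA : IsPGroup p A := IsPGroup.of_card (n := 1) (by rw [h.cardA, pow_one])
  have hn : A.Normal := ⟨fun n hn g => by
    rw [mem_center_iff.1 (h.central hn) g, mul_assoc, mul_inv_cancel, mul_one]; exact hn⟩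
  exact hA.le_sylow_of_normal P

omit [Finite C] in
theorem Rl_smul (l : W) (hl : l ≠ 1) (g : C) (hl' : g • l ≠ 1) {y : C} (hy : y ∈ Rl h l hl) :
    g * y * g⁻¹ ∈ Rl h (g • l) hl' := by
  refine Rl_max h _ hl' _ ?_ ?_
  · have h1 : orderOf y ∣ p ^ 2 := by
      rw [← Rl_card h l hl]; exact Subgroup.orderOf_dvd_natCard _ hy
    obtain ⟨k, -, hk⟩ := (Nat.dvd_prime_pow hp.out).1 h1
    exact ⟨k, by rw [← hk]; exact (orderOf_injective (MulAut.conj g).toMonoidHom (MulAut.conj g).injective y)⟩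
  · rw [← mul_smul, mul_assoc, inv_mul_cancel, mul_one, mul_smul, Rl_fix h l hl y hy]

omit [Finite C] in
theorem K_smul (l : W) (hl : l ≠ 1) (g : C) (hl' : g • l ≠ 1) {y : C} (hy : y ∈ Rl h l hl ⊔ A) :
    g * y * g⁻¹ ∈ Rl h (g • l) hl' ⊔ A := by
  obtain ⟨r, hr, a, ha, rfl⟩ := mem_supA h.central hy
  have : g * (r * a) * g⁻¹ = (g * r * g⁻¹) * a := by
    have h1 := mem_center_iff.1 (h.central ha) g⁻¹
    calc g * (r * a) * g⁻¹ = g * r * (a * g⁻¹) := by group
      _ = g * r * (g⁻¹ * a) := by rw [h1]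
      _ = _ := by group
  rw [this]
  exact mul_mem (mem_sup_left (Rl_smul h l hl g hl' hr)) (mem_sup_right ha)

omit h hp [Finite C] in
theorem card_ne_one [Finite W] (R : Subgroup C) :
    Nat.card {l : W // l ≠ 1 ∧ ∀ x ∈ R, x • l = l} = wt W R - 1 := by
  have h1 : (wt W R) = Set.ncard ((fix W R : Subgroup W) : Set W) := rfl
  have h2 : Nat.card {l : W // l ≠ 1 ∧ ∀ x ∈ R, x • l = l} = Set.ncard (((fix W R : Subgroup W) : Set W) \ {1}) := by
    change Nat.card ({l : W | l ≠ 1 ∧ ∀ x ∈ R, x • l = l} : Set W) = _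
    rw [Nat.card_coe_set_eq]
    congr 1
    ext l
    simp only [Set.mem_ofPred_eq, Set.mem_sdiff, SetLike.mem_coe, Set.mem_singleton_iff, mem_fix]
    tauto
  rw [h2, h1, Set.ncard_sdiff_singleton_of_mem (one_mem (fix W R))]

omit h hp [Finite C] in
theorem card_comap {D : Type*} [Group D] {ι : D →* C} (hι : Function.Injective ι) {K : Subgroup C}
    (hK : K ≤ ι.range) : Nat.card (K.comap ι) = Nat.card K := by
  conv_rhs => rw [← Subgroup.map_comap_eq_self hK]
  exact (Subgroup.card_map_of_injective hι).symm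

omit h hp [Finite C] in
theorem comap_inj {D : Type*} [Group D] {ι : D →* C} {K K' : Subgroup C}
    (hK : K ≤ ι.range) (hK' : K' ≤ ι.range) (h : K.comap ι = K'.comap ι) : K = K' := by
  rw [← Subgroup.map_comap_eq_self hK, h, Subgroup.map_comap_eq_self hK']

theorem fact_D {D : Type*} [Group D] [Finite D] {ι : D →* C} (hι : Function.Injective ι) {K : Subgroup C}
    (hK : K ≤ ι.range) (hKc : Nat.card K = p ^ 3) : (Nat.card D).factorization p = 3 := by
  have h1 : p ^ 3 ∣ Nat.card D := by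
    rw [← hKc, ← card_comap hι hK]
    exact Subgroup.card_subgroup_dvd_card _
  have h2 : Nat.card D ∣ Nat.card C := Subgroup.card_dvd_of_injective ι hι
  have h3 := (hp.out.pow_dvd_iff_le_factorization Nat.card_pos.ne').1 h1
  have h4 := (Nat.factorization_le_iff_dvd Nat.card_pos.ne' Nat.card_pos.ne').2 h2 p
  rw [h.three] at h4
  omega

open Classical in
theorem main_count [Finite W] {D : Type*} [Group D] [Finite D] {ι : D →* C} (hι : Function.Injective ι) (P : Sylow p C)
    (hPD : (P : Subgroup C) ≤ ι.range) {E : Subgroup C} {k : ℕ} (hE : Nat.card E = p ^ k)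
    (hED : ∀ d, ∀ x ∈ E, ι d * x = x * ι d)
    (hS : ∀ (l : W) (hl : l ≠ 1), (∀ x ∈ E, x • l = l) → Rl h l hl ⊔ A ≤ ι.range) :
    wt W E = 1 + Nat.card (Sylow p D) *
      ∑ᶠ R : Pt p (P : Subgroup C) A, (if E ≤ (R : Subgroup C) then wt W (R : Subgroup C) - 1 else 0) := by
  have : Fintype C := Fintype.ofFinite C
  let S := {l : W // l ≠ 1 ∧ ∀ x ∈ E, x • l = l}
  have hSc : wt W E = 1 + Nat.card S := by
    have h1 : Nat.card S = wt W E - 1 := card_ne_one E
    have h2 : 0 < wt W E := by rw [wt_eq]; exact Nat.card_pos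
    omega
  let F : S → Sylow p D := fun s => Sylow.ofCard ((Rl h s.1 s.2.1 ⊔ A).comap ι) (by
    rw [card_comap hι (hS s.1 s.2.1 s.2.2), K_card, fact_D h hι hPD (PH.card_sylow h P)])
  let PD : Sylow p D := Sylow.ofCard ((P : Subgroup C).comap ι) (by
    rw [card_comap hι hPD, PH.card_sylow h P, fact_D h hι hPD (PH.card_sylow h P)])
  have hne : ∀ (g : C) (l : W), l ≠ 1 → g • l ≠ 1 := by
    intro g l hl h1
    apply hl
    have : g⁻¹ • (g • l) = 1 := by rw [h1, smul_one]
    rwa [inv_smul_smul] at this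
  let act : D → S → S := fun d s => ⟨ι d • s.1, hne _ _ s.2.1, fun x hx => by
    rw [← mul_smul, ← hED d x hx, mul_smul, s.2.2 x hx]⟩
  have hinj : ∀ d, Function.Injective (act d) := by
    intro d s t hst
    have : ι d • s.1 = ι d • t.1 := congrArg Subtype.val hst
    exact Subtype.ext (smul_left_cancel _ this)
  have hF : ∀ d s, F (act d s) = d • F s := by
    intro d s
    apply Sylow.ext
    rw [Sylow.coe_subgroup_smul]
    ext x
    rw [Subgroup.mem_pointwise_smul_iff_inv_smul_mem]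
    change ι x ∈ Rl h (ι d • s.1) _ ⊔ A ↔ ι ((MulAut.conj d)⁻¹ • x) ∈ Rl h s.1 s.2.1 ⊔ A
    have h1 : ι ((MulAut.conj d)⁻¹ • x) = (ι d)⁻¹ * ι x * ((ι d)⁻¹)⁻¹ := by
      rw [← map_inv, MulAut.smul_def, MulAut.conj_apply]
      simp
    rw [h1]
    constructor
    · intro hx
      have h2 := K_smul h (ι d • s.1) (hne _ _ s.2.1) (ι d)⁻¹ (hne _ _ (hne _ _ s.2.1)) hx
      simp only [inv_smul_smul] at h2
      exact h2
    · intro hx
      have h2 := K_smul h s.1 s.2.1 (ι d) (hne _ _ s.2.1) hx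
      have h3 : ι d * ((ι d)⁻¹ * ι x * ((ι d)⁻¹)⁻¹) * (ι d)⁻¹ = ι x := by group
      rw [h3] at h2
      exact h2
  rw [hSc, count F act hinj hF PD]
  congr 2
  have hFiff : ∀ s : S, F s = PD ↔ Rl h s.1 s.2.1 ≤ (P : Subgroup C) := by
    intro s
    constructor
    · intro h1
      have h2 : (Rl h s.1 s.2.1 ⊔ A).comap ι = (P : Subgroup C).comap ι := congrArg Sylow.toSubgroup h1
      rw [← comap_inj (hS s.1 s.2.1 s.2.2) hPD h2]
      exact le_sup_left
    · intro h1
      apply Sylow.ext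
      change (Rl h s.1 s.2.1 ⊔ A).comap ι = (P : Subgroup C).comap ι
      have h2 : Rl h s.1 s.2.1 ⊔ A = (P : Subgroup C) :=
        eq_of_le_of_card_ge (sup_le h1 (A_le h P)) (by rw [K_card, PH.card_sylow h])
      rw [h2]
  have : Fintype (Pt p (P : Subgroup C) A) := Fintype.ofFinite _
  rw [finsum_eq_sum_of_fintype, ← Finset.sum_filter]
  let R : {s : S // F s = PD} → {R : Pt p (P : Subgroup C) A // E ≤ (R : Subgroup C)} := fun s =>
    ⟨⟨Rl h s.1.1 s.1.2.1, (hFiff s.1).1 s.2, Rl_card h _ s.1.2.1, Rl_inf h _ s.1.2.1⟩,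
      Rl_le h _ s.1.2.1 hE s.1.2.2⟩
  rw [← Nat.card_congr (Equiv.sigmaFiberEquiv R), Nat.card_sigma,
    Finset.sum_subtype (Finset.univ.filter fun R : Pt p (P : Subgroup C) A => E ≤ (R : Subgroup C))
      (p := fun R : Pt p (P : Subgroup C) A => E ≤ (R : Subgroup C)) (fun R => by simp)]
  refine Finset.sum_congr rfl fun T _ => ?_
  rw [← card_ne_one]
  refine Nat.card_congr ⟨fun s => ⟨s.1.1.1, s.1.1.2.1, fun x hx => ?_⟩, fun l => ⟨⟨⟨l.1, l.2.1, fun x hx => l.2.2 x (T.2 hx)⟩, ?_⟩, ?_⟩, ?_, ?_⟩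
  · have h1 : Rl h s.1.1.1 s.1.1.2.1 = (T.1 : Subgroup C) := congrArg (fun R => ((R.1 : Pt p (P : Subgroup C) A) : Subgroup C)) s.2
    exact Rl_fix h _ s.1.1.2.1 x (by rw [h1]; exact hx)
  · rw [hFiff, ← Rl_unique h l.1 l.2.1 T.1.2.2.1 l.2.2]
    exact T.1.2.1
  · apply Subtype.ext
    apply Subtype.ext
    exact (Rl_unique h l.1 l.2.1 T.1.2.2.1 l.2.2).symm
  · intro s
    rfl
  · intro l
    rfl

omit h [Finite C] in
theorem wt_bot : wt W (⊥ : Subgroup C) = Nat.card W := by
  rw [wt_eq]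
  have : fix W (⊥ : Subgroup C) = ⊤ := by
    rw [eq_top_iff]
    intro l _ x hx
    rw [mem_bot.1 hx, one_smul]
  rw [this, card_top]

omit [Finite C] in
theorem faith_contra [Finite W] {E : Subgroup C} (hE : Nat.card E = p) : wt W E ≠ Nat.card W := by
  intro h1
  rw [wt_eq] at h1
  have h2 : fix W E = ⊤ := Subgroup.eq_top_of_card_eq _ h1
  have hfin : Finite E := Nat.finite_of_card_ne_zero (by rw [hE]; exact hp.out.ne_zero)
  obtain ⟨⟨x, hx⟩, hx1⟩ := exists_prime_orderOf_dvd_card' (G := E) p (by rw [hE])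
  have h3 : orderOf x = p := by rw [← hx1, Subgroup.orderOf_mk]
  obtain ⟨l, hl⟩ := h.faith x h3
  have h4 : l ∈ fix W E := by rw [h2]; exact mem_top l
  exact hl (h4 x hx)

theorem exists_l (P : Sylow p C) : ∃ l : W, ∃ hl : l ≠ 1, Rl h l hl ⊔ A = (P : Subgroup C) := by
  have := h.nontriv
  obtain ⟨l, hl⟩ := exists_ne (1 : W)
  let Q : Sylow p C := Sylow.ofCard (Rl h l hl ⊔ A) (by rw [K_card, h.three])
  obtain ⟨g, hg⟩ := MulAction.exists_smul_eq C Q P
  have hl' : g • l ≠ 1 := by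
    intro h1
    apply hl
    have : g⁻¹ • (g • l) = 1 := by rw [h1, smul_one]
    rwa [inv_smul_smul] at this
  refine ⟨g • l, hl', ?_⟩
  symm
  refine eq_of_le_of_card_ge ?_ (by rw [K_card, PH.card_sylow h])
  intro x hx
  rw [← hg] at hx
  have h1 : (MulAut.conj g)⁻¹ • x ∈ Rl h l hl ⊔ A := by
    rw [Sylow.coe_subgroup_smul, Subgroup.mem_pointwise_smul_iff_inv_smul_mem] at hx
    exact hx
  have h2 := K_smul h l hl g hl' h1
  have h3 : g * ((MulAut.conj g)⁻¹ • x) * g⁻¹ = x := by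
    rw [← map_inv, MulAut.smul_def, MulAut.conj_apply]
    group
  rwa [h3] at h2

theorem sylow_comm (P : Sylow p C) : ∀ x ∈ (P : Subgroup C), ∀ y ∈ (P : Subgroup C), x * y = y * x := by
  obtain ⟨l, hl, h1⟩ := exists_l h P
  rw [← h1]
  exact comm_supA h.central (Rl_comm h l hl)

omit [Finite C] hp in
theorem A_pow {a : C} (ha : a ∈ A) : a ^ p = 1 := by
  rw [← orderOf_dvd_iff_pow_eq_one, ← h.cardA]
  exact Subgroup.orderOf_dvd_natCard A ha

omit [Finite C] hp in
theorem pow_mem_R {R : Subgroup C} {x : C} (hx : x ∈ R ⊔ A) : x ^ p ∈ R := by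
  obtain ⟨r, hr, a, ha, rfl⟩ := mem_supA h.central hx
  have h1 : Commute r a := mem_center_iff.1 (h.central ha) r
  rw [h1.mul_pow, A_pow h ha, mul_one]
  exact pow_mem hr p

theorem sylow_exp [Finite W] (P : Sylow p C) : ∀ x ∈ (P : Subgroup C), x ^ p = 1 := by
  classical
  have hPc := sylow_comm h P
  obtain ⟨l, hl, hP⟩ := exists_l h P
  by_contra hcon
  push Not at hcon
  obtain ⟨x, hx, hxp⟩ := hcon
  rw [← hP] at hx
  obtain ⟨r, hr, a, ha, rfl⟩ := mem_supA h.central hx
  have hz : (r * a) ^ p = r ^ p := by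
    have h1 : Commute r a := mem_center_iff.1 (h.central ha) r
    rw [h1.mul_pow, A_pow h ha, mul_one]
  rw [hz] at hxp
  have hrP : r ∈ (P : Subgroup C) := by rw [← hP]; exact mem_sup_left hr
  set z := r ^ p with hzdef
  have hzR : z ∈ Rl h l hl := pow_mem hr p
  have hzP : z ∈ (P : Subgroup C) := pow_mem hrP p
  have hzp : z ^ p = 1 := by
    rw [hzdef, ← pow_mul, ← sq, ← orderOf_dvd_iff_pow_eq_one, ← Rl_card h l hl]
    exact Subgroup.orderOf_dvd_natCard _ hr
  have hZc : Nat.card (zpowers z) = p := by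
    rw [Nat.card_zpowers]; exact orderOf_eq_prime hzp hxp
  have hZR : zpowers z ≤ Rl h l hl := zpowers_le.2 hzR
  have hZA : zpowers z ⊓ A = ⊥ :=
    le_bot_iff.1 (le_of_le_of_eq (inf_le_inf_right _ hZR) (Rl_inf h l hl))
  set X : Subgroup C := zpowers z ⊔ A with hX
  have hXc : Nat.card X = p ^ 2 := by rw [card_supA h.central hZA, hZc, h.cardA, sq]
  have hXcomm : ∀ x ∈ X, ∀ y ∈ X, x * y = y * x := by
    apply comm_supA h.central
    intro x hx y hy
    obtain ⟨m, rfl⟩ := mem_zpowers_iff.1 hx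
    obtain ⟨n, rfl⟩ := mem_zpowers_iff.1 hy
    rw [← zpow_add, ← zpow_add, add_comm]
  have hXe : ∀ x ∈ X, x ^ p = 1 := by
    intro x hx
    obtain ⟨y, hy, a, ha, rfl⟩ := mem_supA h.central hx
    have h1 : Commute y a := mem_center_iff.1 (h.central ha) y
    rw [h1.mul_pow, A_pow h ha, mul_one]
    obtain ⟨m, rfl⟩ := mem_zpowers_iff.1 hy
    rw [← zpow_natCast, ← zpow_mul, mul_comm, zpow_mul, zpow_natCast, hzp, one_zpow]
  have : Fintype {E : Subgroup C // E ≤ X ∧ Nat.card E = p ∧ E ⊓ A = ⊥} := by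
    have : Fintype C := Fintype.ofFinite C
    exact Fintype.ofFinite _
  have hplane := plane_prod (W := W) hp.out h.cardA h.cop (PH.fixA h) hXcomm hXe hXc le_sup_right
  have hone : ∀ E : {E : Subgroup C // E ≤ X ∧ Nat.card E = p ∧ E ⊓ A = ⊥}, (E : Subgroup C) ≠ zpowers z →
      wt W (E : Subgroup C) = 1 := by
    intro E hEZ
    rw [wt_eq, Subgroup.card_eq_one, Subgroup.eq_bot_iff_forall]
    intro l' hl'
    by_contra hl1
    have hER : (E : Subgroup C) ≤ Rl h l' hl1 := Rl_le h l' hl1 (k := 1) (by rw [E.2.2.1, pow_one]) hl'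
    have hXQ : X ≤ Rl h l' hl1 ⊔ A := by
      have h1 : (E : Subgroup C) ⊔ A = X := by
        refine eq_of_le_of_card_ge (sup_le E.2.1 le_sup_right) ?_
        rw [card_supA h.central E.2.2.2, E.2.2.1, h.cardA, hXc, sq]
      rw [← h1]
      exact sup_le_sup_right hER A
    let Q : Sylow p C := Sylow.ofCard (Rl h l' hl1 ⊔ A) (by rw [K_card, h.three])
    have hQc := comm_supA h.central (Rl_comm h l' hl1)
    have hzX : z ∈ X := mem_sup_left (mem_zpowers z)
    have hPD : (P : Subgroup C) ≤ centralizer ({z} : Set C) := by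
      intro y hy
      rw [mem_centralizer_singleton_iff]
      exact hPc y hy z hzP
    have hQD : (Q : Subgroup C) ≤ centralizer ({z} : Set C) := by
      intro y hy
      rw [mem_centralizer_singleton_iff]
      exact hQc y hy z (hXQ hzX)
    obtain ⟨d, hd⟩ := MulAction.exists_smul_eq (centralizer ({z} : Set C)) (P.subtype hPD) (Q.subtype hQD)
    rw [Sylow.smul_subtype] at hd
    have hd' : d • P = Q := Sylow.subtype_injective hd
    have hdr : (d : C) * r * (d : C)⁻¹ ∈ Rl h l' hl1 ⊔ A := by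
      change (d : C) * r * (d : C)⁻¹ ∈ (Q : Subgroup C)
      rw [← hd']
      change (d : C) * r * (d : C)⁻¹ ∈ (((d : C) • P : Sylow p C) : Subgroup C)
      rw [Sylow.coe_subgroup_smul, Subgroup.mem_pointwise_smul_iff_inv_smul_mem]
      have h3 : (MulAut.conj (d : C))⁻¹ • ((d : C) * r * (d : C)⁻¹) = r := by
        rw [← map_inv, MulAut.smul_def, MulAut.conj_apply]
        group
      rw [h3]
      exact hrP
    have hzR' : z ∈ Rl h l' hl1 := by
      have h3 := pow_mem_R h hdr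
      have h4 : ((d : C) * r * (d : C)⁻¹) ^ p = z := by
        rw [conj_pow, ← hzdef, mem_centralizer_singleton_iff.1 d.2, mul_assoc, mul_inv_cancel, mul_one]
      rwa [h4] at h3
    have h5 : (E : Subgroup C) ⊔ zpowers z = X := by
      refine sup_eq (k := 0) hp.out (by rw [E.2.2.1, zero_add, pow_one]) (by rw [hXc]) E.2.1 le_sup_left ?_
      intro h6
      exact hEZ (eq_of_le_of_card_ge h6 (by rw [E.2.2.1, hZc])).symm
    have h6 : A ≤ Rl h l' hl1 := by
      have : X ≤ Rl h l' hl1 := by rw [← h5]; exact sup_le hER (zpowers_le.2 hzR')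
      exact le_sup_right.trans this
    have h7 : A = ⊥ := le_bot_iff.1 (le_of_le_of_eq (le_inf h6 le_rfl) (Rl_inf h l' hl1))
    have := h.cardA
    rw [h7, card_bot] at this
    exact hp.out.one_lt.ne this
  rw [Finset.prod_eq_single ⟨zpowers z, le_sup_left, hZc, hZA⟩] at hplane
  · exact faith_contra h hZc hplane
  · intro E _ hE
    exact hone E fun h1 => hE (Subtype.ext h1)
  · intro h1
    exact absurd (Finset.mem_univ _) h1

/-- **PS-2.** -/
theorem eqs [Finite W] (P : Sylow p C) : Eqs p W A (P : Subgroup C) := by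
  have hPc := sylow_comm h P
  have hPe := sylow_exp h P
  have hP3 := PH.card_sylow h P
  have hAP := A_le h P
  have hAc := h.cardA
  have hfA := PH.fixA h
  have hp' := hp.out
  have hEc : ∀ (X : Dir p (P : Subgroup C) A) (R₀ : Pt p (P : Subgroup C) A),
      Nat.card ((R₀ : Subgroup C) ⊓ (X : Subgroup C) : Subgroup C) = p :=
    fun X R₀ => card_pt_inf_dir hp' hPc hP3 hAc R₀ X
  refine ⟨⟨⟨fun x y => Subtype.ext (hPc x x.2 y y.2)⟩⟩, hPe, card_dir hp' hPc hPe hP3 hAP hAc,
    card_pt hp' hPc hPe hP3 hAP hAc, rel hp' hPc hP3 hAP hAc, fun R => wt_or hp' h.central hAc hfA _, ?_, ?_, ?_⟩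
  · rw [total_finprod hp' hPc hPe hP3 hAP hAc h.cop hfA, ← wt_bot (C := C),
      main_count h (ι := MonoidHom.id C) Function.injective_id P (E := ⊥) (k := 0)
        (fun x _ => ⟨x, rfl⟩) (by rw [card_bot, pow_zero])
        (fun d x hx => by rw [mem_bot.1 hx]; simp)
        (fun l hl _ x _ => ⟨x, rfl⟩)]
    congr 2
    refine finsum_congr fun R => ?_
    rw [if_pos bot_le]
  · intro X R₀
    rw [line_finprod hp' hPc hPe hP3 hAc h.cop hfA X R₀]
    have hEA : (R₀ : Subgroup C) ⊓ X ⊓ A = ⊥ :=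
      le_bot_iff.1 (le_of_le_of_eq (inf_le_inf_right _ inf_le_left) R₀.2.2.2)
    have hXE : (R₀ : Subgroup C) ⊓ X ⊔ A = (X : Subgroup C) := by
      refine eq_of_le_of_card_ge (sup_le inf_le_right X.2.2.2) ?_
      rw [card_supA h.central hEA, hEc X R₀, hAc, X.2.2.1, sq]
    have hrange : (centralizer ((X : Subgroup C) : Set C)).subtype.range = centralizer ((X : Subgroup C) : Set C) :=
      Subgroup.range_subtype _
    rw [main_count h (ι := (centralizer ((X : Subgroup C) : Set C)).subtype) Subtype.coe_injective P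
        (E := (R₀ : Subgroup C) ⊓ X) (k := 1) ?_ (by rw [hEc X R₀, pow_one]) ?_ ?_]
    · change 1 + cX p (X : Subgroup C) * _ = _
      congr 2
      refine finsum_congr fun R => ?_
      have hiff : (R₀ : Subgroup C) ⊓ X ≤ (R : Subgroup C) ↔ (R : Subgroup C) ⊓ X = (R₀ : Subgroup C) ⊓ X := by
        constructor
        · intro h1
          exact (eq_of_le_of_card_ge (le_inf h1 inf_le_right) (by rw [hEc X R₀, hEc X R])).symm
        · intro h1
          rw [← h1]
          exact inf_le_left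
      by_cases h1 : (R : Subgroup C) ⊓ X = (R₀ : Subgroup C) ⊓ X
      · rw [if_pos (hiff.2 h1), if_pos h1]
      · rw [if_neg (fun h2 => h1 (hiff.1 h2)), if_neg h1]
    · rw [hrange]
      intro x hx
      rw [mem_centralizer_iff]
      intro y hy
      exact hPc y (X.2.1 hy) x hx
    · intro d x hx
      exact (mem_centralizer_iff.1 d.2 x hx.2).symm
    · intro l hl hf
      rw [hrange]
      intro x hx
      rw [mem_centralizer_iff]
      intro y hy
      have h1 : (X : Subgroup C) ≤ Rl h l hl ⊔ A := by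
        rw [← hXE]
        exact sup_le_sup_right (Rl_le h l hl (k := 1) (by rw [hEc X R₀, pow_one]) hf) A
      exact comm_supA h.central (Rl_comm h l hl) y (h1 hy) x hx
  · intro X R₀
    by_contra hcon
    push Not at hcon
    have h1 := total_finprod hp' hPc hPe hP3 hAP hAc h.cop hfA
    have h2 := line_finprod hp' hPc hPe hP3 hAc h.cop hfA X R₀
    refine faith_contra h (hEc X R₀) ?_
    rw [← h1, ← h2]
    refine finprod_congr fun R => ?_
    split_ifs with h3
    · rfl
    · by_contra h4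
      exact h3 (hcon R (fun h5 => h4 h5.symm))

end

end Cfsg.Agent.H812.PSq
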