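import Cfsg.Agent.H812.PSq.Decomp

/-!
# S4844, PS-2a: the affine plane of an elementary abelian group of order `p ^ 3`
-/

set_option autoImplicit false

namespace Cfsg.Agent.H812.PSq

open Cfsg Subgroup Cfsg.Agent.H696.PSq

universe u v

variable {C : Type u} [Group C] [Finite C] {p : ℕ} {A P : Subgroup C} (hp : p.Prime)
  (hPc : ∀ x ∈ P, ∀ y ∈ P, x * y = y * x) (hPe : ∀ x ∈ P, x ^ p = 1) (hP3 : Nat.card P = p ^ 3) (hAP : A ≤ P)
  (hAc : Nat.card A = p)

include hp hPc hPe hP3 hAP hAc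

theorem card_dir : Nat.card (Dir p P A) = p + 1 := by
  classical
  have : Fintype C := Fintype.ofFinite C
  have : Fintype (Dir p P A) := Fintype.ofFinite _
  have key : ∀ (X : Dir p P A) (x : C), x ∈ (X : Subgroup C) → x ∉ A → (X : Subgroup C) = A ⊔ zpowers x := by
    intro X x hx hxA
    refine (eq_of_le_of_card_ge (sup_le X.2.2.2 (zpowers_le.2 hx)) ?_).symm
    rw [card_sup_zpow hp hPc hPe (X.2.1 hx) hAP hxA, hAc, X.2.2.1, sq]
  have hcov : ∀ x ∈ P, x ∉ A → ∃ X : Dir p P A, x ∈ (X : Subgroup C) := by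
    intro x hx hxA
    exact ⟨⟨A ⊔ zpowers x, sup_le hAP (zpowers_le.2 hx), by
      rw [card_sup_zpow hp hPc hPe hx hAP hxA, hAc, sq], le_sup_left⟩, mem_sup_right (mem_zpowers x)⟩
  have huni : ∀ x ∉ A, ∀ X Y : Dir p P A, x ∈ (X : Subgroup C) → x ∈ (Y : Subgroup C) → X = Y := by
    intro x hxA X Y hX hY
    exact Subtype.ext ((key X x hX hxA).trans (key Y x hY hxA).symm)
  have h1 := card_split (R := P) (X := A) (E := A) (inf_eq_right.2 hAP)
  rw [biUnion_eq (R := fun X : Dir p P A => (X : Subgroup C)) (fun X => X.2.1) hcov, Finset.card_biUnion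
    (fun i hi j hj hij => pairwise_disj (R := fun X : Dir p P A => (X : Subgroup C)) huni
      (Finset.mem_coe.2 hi) (Finset.mem_coe.2 hj) hij)] at h1
  have h2 : ∀ X : Dir p P A, (Finset.univ.filter fun x : C => x ∈ (X : Subgroup C) ∧ x ∉ A).card = p ^ 2 - p := by
    intro X
    have := card_split (R := (X : Subgroup C)) (X := A) (E := A) (inf_eq_right.2 X.2.2.2)
    rw [X.2.2.1, hAc] at this
    omega
  rw [Finset.sum_congr rfl (fun i _ => h2 i), Finset.sum_const, Finset.card_univ, smul_eq_mul, hP3, hAc] at h1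
  rw [Nat.card_eq_fintype_card]
  obtain ⟨q, rfl⟩ : ∃ q, p = q + 1 := ⟨p - 1, by have := hp.pos; omega⟩
  have hq : 0 < q := by have := hp.two_le; omega
  have h5 : (q + 1) ^ 2 - (q + 1) = (q + 1) * q := by
    rw [sq, ← Nat.mul_sub_one, Nat.add_sub_cancel]
  rw [h5] at h1
  have h6 : ((q + 1) * q) * (q + 1 + 1) = ((q + 1) * q) * Fintype.card (Dir (q + 1) P A) := by
    nlinarith
  exact (Nat.eq_of_mul_eq_mul_left (by positivity) h6).symm

theorem card_pt : Nat.card (Pt p P A) = p ^ 2 := by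
  classical
  have : Fintype C := Fintype.ofFinite C
  obtain ⟨X⟩ := exists_dir hp hPc hPe hP3 hAP hAc
  have hXc : ∀ x ∈ (X : Subgroup C), ∀ y ∈ (X : Subgroup C), x * y = y * x :=
    fun x hx y hy => hPc x (X.2.1 hx) y (X.2.1 hy)
  have hXe : ∀ x ∈ (X : Subgroup C), x ^ p = 1 := fun x hx => hPe x (X.2.1 hx)
  let I := {E : Subgroup C // E ≤ (X : Subgroup C) ∧ Nat.card E = p ∧ E ⊓ A = ⊥}
  have : Fintype I := Fintype.ofFinite _
  have hone : ∀ x : C, x ∉ A → x ≠ 1 := fun x hx h => hx (h ▸ one_mem A)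
  have hI : Fintype.card I = p := by
    refine card_index (k := 0) (E := ⊥) (X := A) (P := (X : Subgroup C)) (R := fun E : I => (E : Subgroup C))
      hp X.2.2.2 (by rw [card_bot, pow_zero]) (by rw [hAc, zero_add, pow_one]) X.2.2.1
      (fun i => by rw [i.2.2.1, zero_add, pow_one]) (fun i => i.2.1) (fun i => i.2.2.2) ?_ ?_
    · intro x hx hxA
      refine ⟨⟨zpowers x, zpowers_le.2 hx, card_zpow hp hXe hx (hone x hxA), ?_⟩, mem_zpowers x⟩
      rw [inf_comm]
      exact zpow_inf hp hXe hx hxA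
    · intro x hxA i j hi hj
      have hx1 := hone x hxA
      have key : ∀ i : I, x ∈ (i : Subgroup C) → (i : Subgroup C) = zpowers x := by
        intro i hi
        exact (eq_of_le_of_card_ge (zpowers_le.2 hi)
          (by rw [i.2.2.1, card_zpow hp hXe (i.2.1 hi) hx1])).symm
      apply Subtype.ext
      rw [key i hi, key j hj]
  let g : Pt p P A → I :=
    fun R => ⟨(R : Subgroup C) ⊓ X, inf_le_right, card_pt_inf_dir hp hPc hP3 hAc R X,
      le_bot_iff.1 (le_of_le_of_eq (inf_le_inf_right _ inf_le_left) R.2.2.2)⟩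
  have hfib : ∀ E : I, Nat.card {R : Pt p P A // g R = E} = p := by
    intro E
    have hEc : Nat.card (E : Subgroup C) = p := E.2.2.1
    have : Fintype {R : Pt p P A // (R : Subgroup C) ⊓ X = E} := Fintype.ofFinite _
    rw [Nat.card_congr (Equiv.subtypeEquivRight (q := fun R : Pt p P A => (R : Subgroup C) ⊓ X = E)
      fun R => by rw [Subtype.ext_iff]), Nat.card_eq_fintype_card]
    refine card_index (k := 1) (E := (E : Subgroup C)) (X := (X : Subgroup C)) (P := P)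
      (R := fun R : {R : Pt p P A // (R : Subgroup C) ⊓ X = E} => (R.1 : Subgroup C)) hp X.2.1
      (by rw [E.2.2.1, pow_one]) X.2.2.1 hP3 (fun i => i.1.2.2.1)
      (fun i => i.1.2.1) (fun i => i.2) ?_ ?_
    · intro x hx hxX
      obtain ⟨R, hR, hR'⟩ := exists_pt hp hPc hPe hEc X.2.1 X.2.2.2 E.2.1 E.2.2.2 hx hxX
      exact ⟨⟨R, hR'⟩, by rw [hR]; exact mem_sup_right (mem_zpowers x)⟩
    · intro x hxX i j hi hj
      have hEi : (E : Subgroup C) ≤ (i.1 : Subgroup C) := le_of_eq_of_le i.2.symm inf_le_left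
      have hEj : (E : Subgroup C) ≤ (j.1 : Subgroup C) := le_of_eq_of_le j.2.symm inf_le_left
      apply Subtype.ext
      apply Subtype.ext
      rw [pt_unique hp hPc hPe hEc X.2.1 E.2.1 hxX i.1.2.2.1 i.1.2.1 hEi hi,
        pt_unique hp hPc hPe hEc X.2.1 E.2.1 hxX j.1.2.2.1 j.1.2.1 hEj hj]
  rw [← Nat.card_congr (Equiv.sigmaFiberEquiv g), Nat.card_sigma, Finset.sum_congr rfl (fun E _ => hfib E),
    Finset.sum_const, Finset.card_univ, hI, smul_eq_mul, sq]

omit hPe in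
theorem rel (R R' : Pt p P A) (hRR : R ≠ R') :
    ∃! X : Dir p P A, (R : Subgroup C) ⊓ X = (R' : Subgroup C) ⊓ X := by
  set E : Subgroup C := (R : Subgroup C) ⊓ (R' : Subgroup C) with hEdef
  have hne : ¬ (R' : Subgroup C) ≤ R := by
    intro h
    exact hRR (Subtype.ext (eq_of_le_of_card_ge h (by rw [R.2.2.1, R'.2.2.1])).symm)
  have hE : Nat.card E = p := by
    have h1 := card_sup_inf hPc R.2.1 R'.2.1
    rw [sup_eq (k := 1) hp R.2.2.1 hP3 R.2.1 R'.2.1 hne, hP3, R.2.2.1, R'.2.2.1] at h1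
    have h2 : p ^ 3 * Nat.card E = p ^ 3 * p := by
      rw [h1]; ring
    exact Nat.eq_of_mul_eq_mul_left (pow_pos hp.pos 3) h2
  have hEA : E ⊓ A = ⊥ := le_bot_iff.1 (le_of_le_of_eq (inf_le_inf_right _ inf_le_left) R.2.2.2)
  have hEP : E ≤ P := inf_le_left.trans R.2.1
  have hX : Nat.card (E ⊔ A : Subgroup C) = p ^ 2 := by
    have h1 := card_sup_inf hPc hEP hAP
    rw [hEA, card_bot, mul_one, hE, hAc] at h1
    rw [h1, sq]
  let X : Dir p P A := ⟨E ⊔ A, sup_le hEP hAP, hX, le_sup_right⟩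
  have hinf : ∀ S : Pt p P A, E ≤ (S : Subgroup C) → (S : Subgroup C) ⊓ (E ⊔ A) = E := by
    intro S hS
    refine (eq_of_le_of_card_ge (le_inf hS le_sup_left) ?_).symm
    rw [hE, card_pt_inf_dir hp hPc hP3 hAc S X]
  refine ⟨X, ?_, ?_⟩
  · change (R : Subgroup C) ⊓ (E ⊔ A) = (R' : Subgroup C) ⊓ (E ⊔ A)
    rw [hinf R inf_le_left, hinf R' inf_le_right]
  · intro Y hY
    have h1 : (R : Subgroup C) ⊓ Y ≤ E := le_inf inf_le_left (le_of_eq_of_le hY inf_le_left)
    have h2 : (R : Subgroup C) ⊓ Y = E :=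
      eq_of_le_of_card_ge h1 (by rw [hE, card_pt_inf_dir hp hPc hP3 hAc R Y])
    apply Subtype.ext
    symm
    refine eq_of_le_of_card_ge (sup_le ?_ Y.2.2.2) (by rw [Y.2.2.1]; exact hX.ge)
    rw [← h2]
    exact inf_le_right

/-- every `E ≤ P` of order `p` which meets `A` trivially is `R ⊓ X` -/
theorem exists_inf {E : Subgroup C} (hE : Nat.card E = p) (hEP : E ≤ P) (hEA : E ⊓ A = ⊥) :
    ∃ (R : Pt p P A) (X : Dir p P A), (X : Subgroup C) = E ⊔ A ∧ (R : Subgroup C) ⊓ X = E := by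
  have hX : Nat.card (E ⊔ A : Subgroup C) = p ^ 2 := by
    have h1 := card_sup_inf hPc hEP hAP
    rw [hEA, card_bot, mul_one, hE, hAc] at h1
    rw [h1, sq]
  obtain ⟨x, hx, hxX⟩ : ∃ x ∈ P, x ∉ E ⊔ A := by
    by_contra h
    push Not at h
    have h1 : P = E ⊔ A := le_antisymm h (sup_le hEP hAP)
    rw [← h1, hP3] at hX
    exact absurd (Nat.pow_right_injective hp.two_le hX) (by norm_num)
  obtain ⟨R, -, hR⟩ := exists_pt hp hPc hPe hE (sup_le hEP hAP) le_sup_right le_sup_left hEA hx hxX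
  exact ⟨R, ⟨E ⊔ A, sup_le hEP hAP, hX, le_sup_right⟩, rfl, hR⟩

end Cfsg.Agent.H812.PSq
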